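import Groth.Agent.L23.BranchCount
import Mathlib.FieldTheory.PurelyInseparable.Basic
import Mathlib.FieldTheory.PrimitiveElement
import Mathlib.FieldTheory.Normal.Basic
import Mathlib.FieldTheory.IsAlgClosed.Classification

/-!
# Points of a local integral algebra and maximal ideals of a base change
-/

set_option autoImplicit false
set_option linter.style.haveILetI false
set_option linter.unusedSectionVars false
set_option backward.isDefEq.respectTransparency.types false

universe u

open IsLocalRing TensorProduct

namespace Groth.L05.BranchResidue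

variable {A M E Ω : Type u} [CommRing A] [IsLocalRing A] [CommRing M] [IsLocalRing M] [Algebra A M]
  [IsLocalHom (algebraMap A M)] [Algebra.IsIntegral A M] [CommRing E] [IsLocalRing E] [Algebra A E]
  [IsLocalHom (algebraMap A E)] [Algebra.IsIntegral A E] [Field Ω] [IsAlgClosed Ω]
  [Algebra (ResidueField A) Ω] [Algebra A Ω] [IsScalarTower A (ResidueField A) Ω]
  (τ : ResidueField E →ₐ[ResidueField A] Ω)

/-- The point of `E` given by an embedding of its residue field. -/
noncomputable def gPt : E →ₐ[A] Ω :=
  (τ.restrictScalars A).comp (IsScalarTower.toAlgHom A E (ResidueField E))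

theorem gPt_apply (e : E) : gPt τ e = τ (residue E e) := rfl

/-- The point of `M` given by an embedding of its residue field. -/
noncomputable def mPt (s : ResidueField M →ₐ[ResidueField A] Ω) : M →ₐ[A] Ω :=
  (s.restrictScalars A).comp (IsScalarTower.toAlgHom A M (ResidueField M))

theorem mPt_apply (s : ResidueField M →ₐ[ResidueField A] Ω) (n : M) : mPt s n = s (residue M n) := rfl

/-- The point of the tensor product. -/
noncomputable def tPt (s : ResidueField M →ₐ[ResidueField A] Ω) : M ⊗[A] E →ₐ[A] Ω :=
  Algebra.TensorProduct.lift (mPt s) (gPt τ) fun _ _ => Commute.all _ _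

theorem tPt_tmul (s : ResidueField M →ₐ[ResidueField A] Ω) (n : M) (e : E) :
    tPt τ s (n ⊗ₜ e) = s (residue M n) * τ (residue E e) :=
  Algebra.TensorProduct.lift_tmul _ _ _ n e

theorem isMaximal_ker_tPt (s : ResidueField M →ₐ[ResidueField A] Ω) :
    (RingHom.ker (tPt τ s).toRingHom).IsMaximal := by
  haveI : (RingHom.ker (tPt τ s).toRingHom).IsPrime := RingHom.ker_isPrime _
  haveI := Algebra.IsIntegral.tensorProduct A M E
  haveI : Algebra.IsIntegral A (M ⊗[A] E) := Algebra.IsIntegral.trans M
  refine Ideal.isMaximal_of_isIntegral_of_isMaximal_comap (R := A) _ ?_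
  have : (RingHom.ker (tPt τ s).toRingHom).comap (algebraMap A (M ⊗[A] E)) = maximalIdeal A := by
    ext a
    show tPt τ s (algebraMap A _ a) = 0 ↔ _
    rw [AlgHom.commutes, IsScalarTower.algebraMap_apply A (ResidueField A) Ω, map_eq_zero,
      ResidueField.algebraMap_eq, residue_eq_zero_iff]
  rw [this]
  infer_instance

/-- The maximal ideal of a point. -/
noncomputable def ptMax (s : ResidueField M →ₐ[ResidueField A] Ω) : MaximalSpectrum (M ⊗[A] E) :=
  ⟨_, isMaximal_ker_tPt τ s⟩

theorem ptMax_surjective : Function.Surjective (ptMax (M := M) τ) := fun P => by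
  haveI := P.isMaximal
  letI := Ideal.Quotient.field P.asIdeal
  let mk := Ideal.Quotient.mk P.asIdeal
  haveI := Algebra.IsIntegral.tensorProduct A M E
  haveI : Algebra.IsIntegral A (M ⊗[A] E) := Algebra.IsIntegral.trans M
  let jE : E →+* (M ⊗[A] E) ⧸ P.asIdeal :=
    mk.comp (Algebra.TensorProduct.includeRight : E →ₐ[A] M ⊗[A] E).toRingHom
  let jM : M →+* (M ⊗[A] E) ⧸ P.asIdeal :=
    mk.comp (Algebra.TensorProduct.includeLeftRingHom : M →+* M ⊗[A] E)
  have hPA : P.asIdeal.comap (algebraMap A (M ⊗[A] E)) = maximalIdeal A :=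
    eq_maximalIdeal (Ideal.isMaximal_comap_of_isIntegral_of_isMaximal P.asIdeal)
  have hkE : RingHom.ker jE = maximalIdeal E := by
    haveI : (RingHom.ker jE).IsPrime := RingHom.ker_isPrime _
    refine eq_maximalIdeal (Ideal.isMaximal_of_isIntegral_of_isMaximal_comap (R := A) _ ?_)
    have : (RingHom.ker jE).comap (algebraMap A E) = maximalIdeal A := by
      rw [← hPA]
      ext a
      show mk ((Algebra.TensorProduct.includeRight : E →ₐ[A] M ⊗[A] E) (algebraMap A E a)) = 0 ↔ _
      rw [AlgHom.commutes, Ideal.Quotient.eq_zero_iff_mem]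
      rfl
    rw [this]; infer_instance
  have hkM : RingHom.ker jM = maximalIdeal M := by
    haveI : (RingHom.ker jM).IsPrime := RingHom.ker_isPrime _
    refine eq_maximalIdeal (Ideal.isMaximal_of_isIntegral_of_isMaximal_comap (R := A) _ ?_)
    have : (RingHom.ker jM).comap (algebraMap A M) = maximalIdeal A := by
      rw [← hPA]
      ext a
      show mk ((Algebra.TensorProduct.includeLeft : M →ₐ[A] M ⊗[A] E) (algebraMap A M a)) = 0 ↔ _
      rw [AlgHom.commutes, Ideal.Quotient.eq_zero_iff_mem]
      rfl
    rw [this]; infer_instance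
  let jE' : ResidueField E →+* (M ⊗[A] E) ⧸ P.asIdeal :=
    Ideal.Quotient.lift (maximalIdeal E) jE fun x hx => hkE.ge hx
  letI : Algebra (ResidueField E) ((M ⊗[A] E) ⧸ P.asIdeal) := jE'.toAlgebra
  letI : Algebra E ((M ⊗[A] E) ⧸ P.asIdeal) := jE.toAlgebra
  haveI : IsScalarTower E (ResidueField E) ((M ⊗[A] E) ⧸ P.asIdeal) :=
    IsScalarTower.of_algebraMap_eq fun _ => rfl
  haveI : IsScalarTower A E ((M ⊗[A] E) ⧸ P.asIdeal) := IsScalarTower.of_algebraMap_eq fun a => by
    show _ = mk ((Algebra.TensorProduct.includeRight : E →ₐ[A] M ⊗[A] E) (algebraMap A E a))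
    rw [AlgHom.commutes]
    rfl
  haveI : Algebra.IsIntegral A ((M ⊗[A] E) ⧸ P.asIdeal) := ⟨fun z => by
    obtain ⟨x, rfl⟩ := Ideal.Quotient.mk_surjective z
    exact (Algebra.IsIntegral.isIntegral (R := A) x).map (Ideal.Quotient.mkₐ A P.asIdeal)⟩
  haveI : Algebra.IsIntegral E ((M ⊗[A] E) ⧸ P.asIdeal) := Algebra.IsIntegral.tower_top (R := A)
  haveI : Algebra.IsIntegral (ResidueField E) ((M ⊗[A] E) ⧸ P.asIdeal) :=
    Algebra.IsIntegral.tower_top (R := E)
  haveI : Algebra.IsAlgebraic (ResidueField E) ((M ⊗[A] E) ⧸ P.asIdeal) := inferInstance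
  letI : Algebra (ResidueField E) Ω := τ.toRingHom.toAlgebra
  let ψ : (M ⊗[A] E) ⧸ P.asIdeal →ₐ[ResidueField E] Ω := IsAlgClosed.lift
  have hψE : ∀ e, ψ (jE e) = τ (residue E e) := fun e => ψ.commutes (residue E e)
  let s₀ : ResidueField M →+* Ω :=
    Ideal.Quotient.lift (maximalIdeal M) (ψ.toRingHom.comp jM) fun x hx => by
      show ψ (jM x) = 0
      rw [show jM x = 0 from hkM.ge hx, map_zero]
  let s : ResidueField M →ₐ[ResidueField A] Ω :=
    { s₀ with
      commutes' := fun r => by
        obtain ⟨a, rfl⟩ := residue_surjective r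
        show ψ (jM (algebraMap A M a)) = _
        rw [show jM (algebraMap A M a) = jE (algebraMap A E a) from congrArg mk
          (((Algebra.TensorProduct.includeLeft : M →ₐ[A] M ⊗[A] E).commutes a).trans
            ((Algebra.TensorProduct.includeRight : E →ₐ[A] M ⊗[A] E).commutes a).symm), hψE]
        exact τ.commutes (residue A a) }
  refine ⟨s, MaximalSpectrum.ext ?_⟩
  have hs : ∀ z, tPt τ s z = ψ (mk z) := fun z => by
    induction z using TensorProduct.induction_on with
    | zero => simp
    | add x y hx hy => rw [map_add, map_add, map_add, hx, hy]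
    | tmul n e =>
      rw [tPt_tmul, show n ⊗ₜ[A] e = (n ⊗ₜ[A] (1 : E)) * (1 ⊗ₜ[A] e) by
        rw [Algebra.TensorProduct.tmul_mul_tmul, mul_one, one_mul], map_mul, map_mul, ← hψE]
      rfl
  ext z
  show tPt τ s z = 0 ↔ _
  rw [hs, map_eq_zero]
  exact Ideal.Quotient.eq_zero_iff_mem

/-- Points are separated by maximal ideals exactly when all separable embeddings have values in `E`. -/
theorem ptMax_injective_iff [IsAlgClosure (ResidueField E) (AlgebraicClosure (ResidueField E))]
    [Algebra.IsAlgebraic (ResidueField A) Ω] :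
    Function.Injective (ptMax (M := M) τ) ↔
      ∀ σ : separableClosure (ResidueField A) (ResidueField M) →ₐ[ResidueField A] Ω,
        ∀ u, ∃ y, τ y = σ u := by
  haveI : Algebra.IsIntegral (ResidueField A) (ResidueField M) := by
    haveI : Algebra.IsIntegral A (ResidueField M) := ⟨fun z => by
      obtain ⟨x, rfl⟩ := residue_surjective z
      exact (Algebra.IsIntegral.isIntegral (R := A) x).map (IsScalarTower.toAlgHom A M (ResidueField M))⟩
    exact Algebra.IsIntegral.tower_top (R := A)
  haveI : Algebra.IsAlgebraic (ResidueField A) (ResidueField M) := inferInstance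
  let ks := separableClosure (ResidueField A) (ResidueField M)
  constructor
  · intro hinj σ u
    by_contra hu
    letI : Algebra (ResidueField E) Ω := τ.toRingHom.toAlgebra
    haveI : IsScalarTower (ResidueField A) (ResidueField E) Ω :=
      IsScalarTower.of_algebraMap_eq fun r => (τ.commutes r).symm
    haveI : Algebra.IsAlgebraic (ResidueField E) Ω :=
      Algebra.IsAlgebraic.tower_top (K := ResidueField A) (L := ResidueField E) (A := Ω)
    haveI : IsAlgClosure (ResidueField E) Ω := ⟨inferInstance, inferInstance⟩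
    have hsep : IsSeparable (ResidueField E) (σ u) :=
      IsSeparable.tower_top (ResidueField E)
        (IsSeparable.map σ σ.toRingHom.injective (Algebra.IsSeparable.isSeparable (ResidueField A) u))
    have hdeg : (minpoly (ResidueField E) (σ u)).natDegree ≠ 1 := fun h1 =>
      hu (minpoly.natDegree_eq_one_iff.1 h1)
    have hint : IsIntegral (ResidueField E) (σ u) := Algebra.IsIntegral.isIntegral _
    have hcard : 1 < Fintype.card ((minpoly (ResidueField E) (σ u)).rootSet Ω) := by
      rw [Polynomial.card_rootSet_eq_natDegree hsep (IsAlgClosed.splits _)]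
      have := minpoly.natDegree_pos hint
      omega
    obtain ⟨⟨y, hy⟩, hne⟩ := Fintype.exists_ne_of_one_lt_card hcard
      ⟨σ u, (Polynomial.mem_rootSet_of_ne (minpoly.ne_zero hint)).2 (minpoly.aeval _ _)⟩
    obtain ⟨g, hg⟩ := minpoly.exists_algEquiv_of_root' (L := Ω)
      (Algebra.IsAlgebraic.isAlgebraic (R := ResidueField E) (σ u))
      ((Polynomial.mem_rootSet_of_ne (minpoly.ne_zero hint)).1 hy)
    letI : Algebra ks Ω := σ.toRingHom.toAlgebra
    haveI : IsScalarTower (ResidueField A) ks Ω := IsScalarTower.of_algebraMap_eq fun r => (σ.commutes r).symm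
    haveI : Algebra.IsAlgebraic ks (ResidueField M) :=
      Algebra.IsAlgebraic.tower_top (K := ResidueField A) (L := ks) (A := ResidueField M)
    let l₀ : ResidueField M →ₐ[ks] Ω := IsAlgClosed.lift
    let s₁ : ResidueField M →ₐ[ResidueField A] Ω := l₀.restrictScalars _
    let s₂ : ResidueField M →ₐ[ResidueField A] Ω := (g.toAlgHom.restrictScalars _).comp s₁
    have hs : s₁ = s₂ := hinj (MaximalSpectrum.ext (by
      ext z
      have hz : tPt τ s₂ z = g (tPt τ s₁ z) := by
        induction z using TensorProduct.induction_on with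
        | zero => simp
        | add x y hx hy => rw [map_add, map_add, map_add, hx, hy]
        | tmul n e =>
          rw [tPt_tmul, tPt_tmul, map_mul]
          exact congrArg (_ * ·) (g.commutes (residue E e)).symm
      show tPt τ s₁ z = 0 ↔ tPt τ s₂ z = 0
      rw [hz, map_eq_zero_iff g g.injective]))
    have h1 := DFunLike.congr_fun hs (algebraMap ks (ResidueField M) u)
    have h2 : s₁ (algebraMap ks (ResidueField M) u) = σ u := l₀.commutes u
    refine hne (Subtype.ext ?_)
    show y = σ u
    rw [← hg]
    rw [show s₂ (algebraMap ks (ResidueField M) u) = g (s₁ (algebraMap ks (ResidueField M) u)) from rfl, h2] at h1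
    exact h1.symm
  · intro h s₁ s₂ he
    have hu : ∀ u : ks, s₁ u = s₂ u := fun u => by
      obtain ⟨y, hy⟩ := h (s₁.comp ks.val) u
      obtain ⟨m, hm⟩ := residue_surjective (u : ResidueField M)
      obtain ⟨e, rfl⟩ := residue_surjective y
      have hy' : τ (residue E e) = s₁ u := hy
      have hz : tPt τ s₁ (m ⊗ₜ 1 - 1 ⊗ₜ e) = 0 := by
        rw [map_sub, tPt_tmul, tPt_tmul, hm, map_one, map_one, map_one, map_one, mul_one, one_mul, hy',
          sub_self]
      have hker : RingHom.ker (tPt τ s₁).toRingHom = RingHom.ker (tPt τ s₂).toRingHom :=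
        congrArg MaximalSpectrum.asIdeal he
      have hz2 : tPt τ s₂ (m ⊗ₜ 1 - 1 ⊗ₜ e) = 0 := hker.le hz
      rw [map_sub, tPt_tmul, tPt_tmul, hm, map_one, map_one, map_one, map_one, mul_one, one_mul, hy',
        sub_eq_zero] at hz2
      exact hz2.symm
    haveI : IsPurelyInseparable ks (ResidueField M) := separableClosure.isPurelyInseparable _ _
    exact AlgHom.coe_ringHom_injective (IsPurelyInseparable.injective_comp_algebraMap ks (ResidueField M) Ω
      (a₁ := s₁.toRingHom) (a₂ := s₂.toRingHom) (RingHom.ext hu))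

include τ in
/-- The count. -/
theorem card_eq_iff [Algebra.IsAlgebraic (ResidueField A) Ω]
    [FiniteDimensional (ResidueField A) (ResidueField M)] :
    Nat.card (MaximalSpectrum (M ⊗[A] E)) = Nat.card (ResidueField M →ₐ[ResidueField A] Ω) ↔
      Nat.card (separableClosure (ResidueField A) (ResidueField M) →ₐ[ResidueField A] ResidueField E) =
        Module.finrank (ResidueField A) (separableClosure (ResidueField A) (ResidueField M)) := by
  haveI : IsAlgClosure (ResidueField E) (AlgebraicClosure (ResidueField E)) := inferInstance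
  haveI : Finite (ResidueField M →ₐ[ResidueField A] Ω) := Finite.algHom _ _ _
  haveI : Finite (MaximalSpectrum (M ⊗[A] E)) := Finite.of_surjective _ (ptMax_surjective τ)
  let ks := separableClosure (ResidueField A) (ResidueField M)
  let post : (ks →ₐ[ResidueField A] ResidueField E) → (ks →ₐ[ResidueField A] Ω) := fun φ => τ.comp φ
  have hpost : Function.Injective post := fun φ φ' h =>
    AlgHom.ext fun x => τ.toRingHom.injective (DFunLike.congr_fun h x)
  haveI : Finite (ks →ₐ[ResidueField A] Ω) := Finite.algHom _ _ _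
  haveI : Finite (ks →ₐ[ResidueField A] ResidueField E) := Finite.of_injective post hpost
  have hcard : Nat.card (ks →ₐ[ResidueField A] Ω) = Module.finrank (ResidueField A) ks := by
    rw [Nat.card_eq_fintype_card, AlgHom.card]
  rw [← hcard]
  have h1 : (Nat.card (MaximalSpectrum (M ⊗[A] E)) = Nat.card (ResidueField M →ₐ[ResidueField A] Ω)) ↔
      Function.Injective (ptMax (M := M) τ) :=
    ⟨fun h => ((Nat.bijective_iff_surjective_and_card _).2 ⟨ptMax_surjective τ, h.symm⟩).1,
      fun h => (Nat.card_eq_of_bijective _ ⟨h, ptMax_surjective τ⟩).symm⟩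
  rw [h1, ptMax_injective_iff]
  constructor
  · intro h
    refine Nat.card_eq_of_bijective post ⟨hpost, fun σ => ?_⟩
    choose y hy using h σ
    refine ⟨{ toFun := y, map_one' := τ.toRingHom.injective ?_, map_mul' := fun a b => τ.toRingHom.injective ?_,
              map_zero' := τ.toRingHom.injective ?_, map_add' := fun a b => τ.toRingHom.injective ?_,
              commutes' := fun r => τ.toRingHom.injective ?_ }, AlgHom.ext hy⟩
    · show τ (y 1) = τ 1; rw [hy, map_one, map_one]
    · show τ (y (a * b)) = τ (y a * y b); rw [map_mul, hy, hy, hy, map_mul]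
    · show τ (y 0) = τ 0; rw [hy, map_zero, map_zero]
    · show τ (y (a + b)) = τ (y a + y b); rw [map_add, hy, hy, hy, map_add]
    · show τ (y (algebraMap _ _ r)) = τ (algebraMap _ _ r); rw [hy, σ.commutes, τ.commutes]
  · intro h σ u
    obtain ⟨φ, hφ⟩ := ((Nat.bijective_iff_injective_and_card post).2 ⟨hpost, h⟩).2 σ
    exact ⟨φ u, DFunLike.congr_fun hφ u⟩

end Groth.L05.BranchResidue
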