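import Groth.Agent.L05.BranchResidue.Main
import Groth.Agent.L05.BranchResidue.Points
import Groth.Agent.L05.StrictGalois.Union
import Groth.Agent.L05.StrictGalois.NormFin
import Groth.Agent.S2654
import Groth.Agent.L20.WeaklyEtaleStalk
import Mathlib.RingTheory.Unramified.LocalRing

/-!
# Essentially étale stages and minimal primes
-/

set_option autoImplicit false
set_option linter.style.haveILetI false
set_option backward.isDefEq.respectTransparency.types false
set_option backward.isDefEq.respectTransparency false

universe u

open IsLocalRing TensorProduct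

namespace Groth.L05.BranchResidue

theorem weaklyEtale_of_essEt (A E : Type u) [CommRing A] [IsLocalRing A] [CommRing E] [Algebra A E]
    (hE : EGA4loc.IsEssentiallyEtale A E) : Algebra.WeaklyEtale A E := by
  obtain ⟨C, _, _, q, _, hC, -, ⟨e⟩⟩ := hE
  haveI : Algebra.WeaklyEtale A C := inferInstance
  letI : Algebra C E := (e.symm.toRingHom.comp (algebraMap C (Localization.AtPrime q))).toAlgebra
  haveI : IsScalarTower A C E := IsScalarTower.of_algebraMap_eq fun a => by
    show algebraMap A E a = e.symm (algebraMap C (Localization.AtPrime q) (algebraMap A C a))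
    rw [← IsScalarTower.algebraMap_apply, AlgEquiv.commutes]
  haveI : IsLocalization q.primeCompl E :=
    IsLocalization.isLocalization_of_algEquiv q.primeCompl
      ({ e.symm.toRingEquiv with commutes' := fun c => rfl } : Localization.AtPrime q ≃ₐ[C] E)
  haveI := Groth.L20.weaklyEtale_isLocalization q.primeCompl E
  exact Algebra.WeaklyEtale.trans A C E

theorem card_maximalSpectrum_congr {R R' : Type u} [CommRing R] [CommRing R'] (e : R ≃+* R') :
    Nat.card (MaximalSpectrum R) = Nat.card (MaximalSpectrum R') :=
  Nat.card_congr
    { toFun := fun P => ⟨P.asIdeal.comap e.symm.toRingHom, haveI := P.isMaximal; Ideal.comap_isMaximal_of_equiv e.symm⟩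
      invFun := fun P => ⟨P.asIdeal.comap e.toRingHom, haveI := P.isMaximal; Ideal.comap_isMaximal_of_equiv e⟩
      left_inv := fun P => MaximalSpectrum.ext (Ideal.ext fun x => by simp)
      right_inv := fun P => MaximalSpectrum.ext (Ideal.ext fun x => by
        show e (e.symm x) ∈ P.asIdeal ↔ _
        rw [e.apply_symm_apply]) }

theorem bijective_mPt {A M Ω : Type u} [CommRing A] [IsLocalRing A] [CommRing M] [IsLocalRing M]
    [Algebra A M] [IsLocalHom (algebraMap A M)] [Algebra.IsIntegral A M] [Field Ω]
    [Algebra (ResidueField A) Ω] [Algebra A Ω] [IsScalarTower A (ResidueField A) Ω] :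
    Function.Bijective (mPt : (ResidueField M →ₐ[ResidueField A] Ω) → (M →ₐ[A] Ω)) := by
  refine ⟨fun s s' hs => AlgHom.ext fun x => ?_, fun g => ?_⟩
  · obtain ⟨m, rfl⟩ := residue_surjective x
    exact DFunLike.congr_fun hs m
  · have hker : ∀ m ∈ maximalIdeal (M), g.toRingHom m = 0 := fun m hm => by
      haveI : (RingHom.ker g.toRingHom).IsPrime := RingHom.ker_isPrime _
      haveI : (RingHom.ker g.toRingHom).IsMaximal :=
        Ideal.isMaximal_of_isIntegral_of_isMaximal_comap (R := A) _ (by
          rw [show (RingHom.ker g.toRingHom).comap (algebraMap A _) = maximalIdeal A from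
            Ideal.ext fun a => by
              show g (algebraMap A _ a) = 0 ↔ _
              rw [g.commutes, IsScalarTower.algebraMap_apply A (ResidueField A) Ω, map_eq_zero,
                ResidueField.algebraMap_eq, residue_eq_zero_iff]]
          infer_instance)
      exact (eq_maximalIdeal (inferInstance : (RingHom.ker g.toRingHom).IsMaximal)).ge hm
    let s₀ : ResidueField M →+* Ω := Ideal.Quotient.lift (maximalIdeal M) g.toRingHom hker
    exact ⟨{ s₀ with
        commutes' := fun r => by
          obtain ⟨a, rfl⟩ := residue_surjective r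
          show g (algebraMap A _ a) = _
          rw [g.commutes]
          exact IsScalarTower.algebraMap_apply A (ResidueField A) Ω a }, AlgHom.ext fun m => rfl⟩

theorem card_max_tensor_congr {A M N T : Type u} [CommRing A] [CommRing M] [CommRing N] [CommRing T]
    [Algebra A M] [Algebra A N] [Algebra A T] (e : M ≃ₐ[A] N) :
    Nat.card (MaximalSpectrum (M ⊗[A] T)) = Nat.card (MaximalSpectrum (N ⊗[A] T)) :=
  card_maximalSpectrum_congr (Algebra.TensorProduct.congr e (AlgEquiv.refl : T ≃ₐ[A] T)).toRingEquiv

theorem extended_iff_essEt (A S E : Type u) [CommRing A] [HenselianLocalRing A] [IsDomain A]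
    (hA : EGA4.IsExcellent A)
    [IsLocalRing (integralClosure A (FractionRing A))]
    [IsLocalHom (algebraMap A (integralClosure A (FractionRing A)))]
    [CommRing S] [IsLocalRing S] [Algebra A S] [IsLocalHom (algebraMap A S)]
    [Hensel.IsStrictHenselization A S]
    [CommRing E] [IsLocalRing E] [Algebra A E] [IsLocalHom (algebraMap A E)]
    (hE : EGA4loc.IsEssentiallyEtale A E) [Algebra E S] [IsScalarTower A E S] :
    (∀ Q ∈ minimalPrimes S, Q = Ideal.map (algebraMap E S) (Q.comap (algebraMap E S))) ↔
      Nat.card (separableClosure (ResidueField A) (ResidueField (integralClosure A (FractionRing A))) →ₐ[ResidueField A]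
          ResidueField E) =
        Module.finrank (ResidueField A)
          (separableClosure (ResidueField A) (ResidueField (integralClosure A (FractionRing A)))) := by
  classical
  have hS : Hensel.IsStrictHenselization A S := inferInstance
  haveI : HenselianLocalRing S := hS.henselian
  haveI : IsSepClosed (ResidueField S) := hS.isSepClosure.sep_closed
  haveI : Algebra.IsSeparable (ResidueField A) (ResidueField S) := hS.isSepClosure.separable
  haveI : IsNoetherianRing A := hA.1
  haveI : IsNoetherianRing S := (Groth.Agent.S0540.result A S).1 inferInstance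
  haveI := Groth.L05.Henselization.flat_of_isStrictHenselization A S
  haveI : Algebra.WeaklyEtale A S := Groth.L27.IndEtale.weaklyEtale A S
    (Groth.L05.Henselization.isIndEtale_of_isStrictHenselization A S)
  haveI := Groth.L05.StrictGalois.flat_of_essEt hE
  haveI := Groth.L05.StrictGalois.formallyEtale_of_essEt hE
  haveI := Groth.L05.StrictGalois.essFiniteType_of_essEt hE
  haveI : Algebra.WeaklyEtale A E := weaklyEtale_of_essEt A E hE
  -- `S` is a strict henselization of `E`
  haveI : IsLocalHom (algebraMap E S) := by
    refine ((IsLocalRing.local_hom_TFAE _).out 0 2 rfl rfl).mpr ?_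
    rw [← Algebra.FormallyUnramified.map_maximalIdeal (R := A) (S := E), Ideal.map_map,
      ← IsScalarTower.algebraMap_eq]
    exact ((IsLocalRing.local_hom_TFAE _).out 0 2 rfl rfl).mp
      (inferInstance : IsLocalHom (algebraMap A S))
  obtain ⟨hflat, hμ⟩ := Groth.L20.TorAmp.weaklyEtale_cancel A E S
  haveI : Algebra.WeaklyEtale E S := ⟨hflat, hμ⟩
  haveI : Hensel.IsStrictHenselization E S := Groth.L05.HensTensor.isStrictHenselization_of_weaklyEtale E S
  haveI := Groth.L05.Henselization.faithfullyFlat_of_flat_local (R := E) (S := S)
  haveI : Algebra.IsIntegral A S := Groth.L05.StrictGalois.isIntegral_strict (hS := hS)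
  have hinj : Function.Injective (algebraMap E S) := FaithfulSMul.algebraMap_injective E S
  haveI : Algebra.IsIntegral A E := ⟨fun x =>
    (isIntegral_algHom_iff (IsScalarTower.toAlgHom A E S) hinj).1 (Algebra.IsIntegral.isIntegral _)⟩
  haveI : HenselianLocalRing E := Groth.L05.henselianLocalRing_of_integral (A := A) E
  haveI : IsReduced S := (Groth.Agent.S2747.result A S).2 inferInstance
  haveI : IsReduced E := isReduced_of_injective (algebraMap E S) hinj
  rw [extended_iff_card E S]
  -- count
  have hfinA : (minimalPrimes A).Finite := minimalPrimes.finite_of_isNoetherianRing A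
  obtain ⟨e, he⟩ := Groth.L06.WedgeDVR.exists_normRed_ringEquiv A
  let eA : integralClosure A (FractionRing A) ≃ₐ[A] CAlg2.normRed A := AlgEquiv.ofRingEquiv (f := e) fun a => he a
  have cnt : ∀ (T : Type u) [CommRing T] [IsLocalRing T] [Algebra A T] [HenselianLocalRing T]
      [Module.Flat A T] [Algebra.WeaklyEtale A T], Finite (minimalPrimes T) →
      Nat.card (minimalPrimes T) = Nat.card (MaximalSpectrum (integralClosure A (FractionRing A) ⊗[A] T)) := by
    intro T _ _ _ _ _ _ hfin
    rw [card_max_tensor_congr eA]
    have h : ENat.card (minimalPrimes T) = ENat.card (MaximalSpectrum (CAlg2.normRed A ⊗[A] T)) :=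
      Groth.L23.Branch.encard_minimalPrimes_eq_card_maximal A T hfinA
    haveI := hfin
    haveI : Finite (MaximalSpectrum (CAlg2.normRed A ⊗[A] T)) :=
      ENat.card_lt_top.1 (h ▸ ENat.card_lt_top.2 inferInstance)
    rw [ENat.card_eq_coe_natCard, ENat.card_eq_coe_natCard, Nat.cast_inj] at h
    exact h
  haveI : IsNoetherianRing E := Groth.L05.StrictGalois.isNoetherianRing_of_essEt hE
  rw [cnt S (minimalPrimes.finite_of_isNoetherianRing S).to_subtype,
    cnt E (minimalPrimes.finite_of_isNoetherianRing E).to_subtype]
  -- finiteness of the residue field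
  haveI : Module.Finite A (integralClosure A (FractionRing A)) :=
    Groth.L05.StrictGalois.finite_integralClosure_of_finite A
      (Groth.Agent.S2654.result A ⟨hA.1, hA.2.2.1, hA.2.2.2⟩) (FractionRing A)
  haveI : FiniteDimensional (ResidueField A) (ResidueField (integralClosure A (FractionRing A))) :=
    Module.Finite.of_restrictScalars_finite A _ _
  haveI : Algebra.IsIntegral A (integralClosure A (FractionRing A)) := Algebra.IsIntegral.of_finite A _
  let Ω := AlgebraicClosure (ResidueField A)
  haveI : Algebra.IsAlgebraic (ResidueField A) (ResidueField E) := by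
    haveI : Algebra.IsIntegral A (ResidueField E) := ⟨fun z => by
      obtain ⟨x, rfl⟩ := residue_surjective z
      exact (Algebra.IsIntegral.isIntegral (R := A) x).map (IsScalarTower.toAlgHom A E (ResidueField E))⟩
    haveI : Algebra.IsIntegral (ResidueField A) (ResidueField E) := Algebra.IsIntegral.tower_top (R := A)
    infer_instance
  let τ : ResidueField E →ₐ[ResidueField A] Ω := IsAlgClosed.lift
  let τS : ResidueField S →ₐ[ResidueField A] Ω := IsAlgClosed.lift
  have hsrc : Nat.card (MaximalSpectrum (integralClosure A (FractionRing A) ⊗[A] S)) =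
      Nat.card (ResidueField (integralClosure A (FractionRing A)) →ₐ[ResidueField A] Ω) := by
    have h := Groth.L23.Branch.card_maximal_eq_card_algHom A S (integralClosure A (FractionRing A)) Ω
      τS.toRingHom fun a => by
        show τS (algebraMap (ResidueField A) (ResidueField S) (residue A a)) = _
        rw [τS.commutes]
        exact (IsScalarTower.algebraMap_apply A (ResidueField A) Ω a).symm
    have hbij := bijective_mPt (A := A) (M := integralClosure A (FractionRing A)) (Ω := Ω)
    haveI : Finite (ResidueField (integralClosure A (FractionRing A)) →ₐ[ResidueField A] Ω) :=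
      Finite.algHom _ _ _
    haveI : Finite (integralClosure A (FractionRing A) →ₐ[A] Ω) := Finite.of_surjective _ hbij.2
    haveI : Finite (MaximalSpectrum (integralClosure A (FractionRing A) ⊗[A] S)) :=
      ENat.card_lt_top.1 (h ▸ ENat.card_lt_top.2 inferInstance)
    rw [ENat.card_eq_coe_natCard, ENat.card_eq_coe_natCard, Nat.cast_inj] at h
    rw [← h]
    exact (Nat.card_eq_of_bijective _ hbij).symm
  rw [hsrc]
  exact eq_comm.trans (card_eq_iff τ)

end Groth.L05.BranchResidue
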