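import Groth.Agent.L23.BranchSum
import Groth.Agent.L06.WedgeDVR
import Groth.Agent.L05.HensTensor.WEHens
import Groth.Agent.S0540
import Groth.Agent.S0511
import Groth.Agent.S2747
import Mathlib.FieldTheory.PurelyInseparable.Basic

/-!
# Residue fields of the normalisation and minimal primes of the strict henselization
-/

set_option autoImplicit false
set_option linter.style.haveILetI false
set_option backward.isDefEq.respectTransparency.types false

universe u

open IsLocalRing

namespace Groth.L05.BranchResidue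

variable (A : Type u) [CommRing A] [IsLocalRing A]

/-- The embeddings of a branch are a single one exactly when its residue field is purely inseparable. -/
theorem emb_iff (m : MaximalSpectrum (CAlg2.normRed A)) :
    Nonempty (Brnch.Emb A m) ∧ (Subsingleton (Brnch.Emb A m) ↔
      ∀ x : CAlg2.normRed A ⧸ m.asIdeal, ∃ n : ℕ,
        x ^ (ringExpChar (CAlg2.normRed A ⧸ m.asIdeal)) ^ n ∈ (Brnch.toResidue A m).range) := by
  haveI := m.isMaximal
  haveI : Algebra.IsIntegral A (CAlg2.normRed A) := Groth.L05.Henselization.Branches.isIntegral_normRed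
  letI := Ideal.Quotient.field m.asIdeal
  have hmk : Brnch.toResidue A m = algebraMap A (CAlg2.normRed A ⧸ m.asIdeal) := rfl
  have hk : ∀ a ∈ maximalIdeal A, algebraMap A (CAlg2.normRed A ⧸ m.asIdeal) a = 0 := fun a ha =>
    Ideal.Quotient.eq_zero_iff_mem.2
      ((eq_maximalIdeal (Ideal.isMaximal_comap_of_isIntegral_of_isMaximal (R := A) m.asIdeal)).ge ha)
  letI : Algebra (ResidueField A) (CAlg2.normRed A ⧸ m.asIdeal) :=
    (Ideal.Quotient.lift (maximalIdeal A) (algebraMap A _) hk).toAlgebra
  haveI : IsScalarTower A (ResidueField A) (CAlg2.normRed A ⧸ m.asIdeal) :=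
    IsScalarTower.of_algebraMap_eq fun a => rfl
  haveI : Algebra.IsIntegral (ResidueField A) (CAlg2.normRed A ⧸ m.asIdeal) :=
    Algebra.IsIntegral.tower_top (R := A)
  haveI : Algebra.IsAlgebraic (ResidueField A) (CAlg2.normRed A ⧸ m.asIdeal) := inferInstance
  let eqv : Brnch.Emb A m ≃
      ((CAlg2.normRed A ⧸ m.asIdeal) →ₐ[ResidueField A] AlgebraicClosure (ResidueField A)) :=
    { toFun := fun σ => { σ.1 with
        commutes' := fun r => by
          obtain ⟨a, rfl⟩ := residue_surjective r
          exact DFunLike.congr_fun σ.2 a }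
      invFun := fun τ => ⟨τ.toRingHom, RingHom.ext fun a => τ.commutes (residue A a)⟩
      left_inv := fun σ => rfl
      right_inv := fun τ => rfl }
  refine ⟨⟨eqv.symm IsAlgClosed.lift⟩, ?_⟩
  rw [eqv.subsingleton_congr, hmk,
    ← (Field.embEquivOfIsAlgClosed (ResidueField A) (CAlg2.normRed A ⧸ m.asIdeal)
      (AlgebraicClosure (ResidueField A))).subsingleton_congr,
    ← isPurelyInseparable_iff_subsingleton_emb]
  have hr : (algebraMap (ResidueField A) (CAlg2.normRed A ⧸ m.asIdeal)).range =
      (algebraMap A (CAlg2.normRed A ⧸ m.asIdeal)).range := by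
    ext x
    constructor
    · rintro ⟨r, rfl⟩
      obtain ⟨a, rfl⟩ := residue_surjective r
      exact ⟨a, rfl⟩
    · rintro ⟨a, rfl⟩
      exact ⟨residue A a, rfl⟩
  haveI : ExpChar (CAlg2.normRed A ⧸ m.asIdeal) (ringExpChar (ResidueField A)) :=
    expChar_of_injective_ringHom
      (algebraMap (ResidueField A) (CAlg2.normRed A ⧸ m.asIdeal)).injective _
  rw [isPurelyInseparable_iff_pow_mem (ResidueField A) (ringExpChar (ResidueField A)),
    ← hr, ringExpChar.eq (CAlg2.normRed A ⧸ m.asIdeal) (ringExpChar (ResidueField A))]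

theorem card_subsingleton_iff {ι : Type*} (α : ι → Type*) [∀ i, Nonempty (α i)]
    (hfin : Finite (Σ i, α i)) :
    ENat.card (Σ i, α i) = ENat.card ι ↔ ∀ i, Subsingleton (α i) := by
  constructor
  · intro h i
    haveI := hfin
    haveI : Finite ι := Finite.of_surjective (Sigma.fst : (Σ i, α i) → ι) fun i =>
      ⟨⟨i, Classical.arbitrary _⟩, rfl⟩
    rw [ENat.card_eq_coe_natCard, ENat.card_eq_coe_natCard, Nat.cast_inj] at h
    have hinj : Function.Injective (Sigma.fst : (Σ i, α i) → ι) :=
      ((Nat.bijective_iff_surjective_and_card _).2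
        ⟨fun i => ⟨⟨i, Classical.arbitrary _⟩, rfl⟩, h⟩).1
    exact ⟨fun a b => eq_of_heq (Sigma.mk.inj_iff.1
      (hinj (a₁ := (⟨i, a⟩ : Σ i, α i)) (a₂ := ⟨i, b⟩) rfl)).2⟩
  · intro h
    exact ENat.card_congr (Equiv.ofBijective Sigma.fst
      ⟨fun x y e => by
        obtain ⟨i, a⟩ := x
        obtain ⟨j, b⟩ := y
        obtain rfl : i = j := e
        rw [Subsingleton.elim a b],
        fun i => ⟨⟨i, Classical.arbitrary _⟩, rfl⟩⟩)

section Contraction

variable (R T : Type u) [CommRing R] [IsLocalRing R] [CommRing T] [IsLocalRing T] [Algebra R T]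
  [IsLocalHom (algebraMap R T)] [Hensel.IsStrictHenselization R T]

/-- Minimal primes are extended exactly when there are equally many upstairs and downstairs. -/
theorem extended_iff_card [IsNoetherianRing T] [IsReduced R] :
    (∀ Q ∈ minimalPrimes T, Q = Ideal.map (algebraMap R T) (Q.comap (algebraMap R T))) ↔
      Nat.card (minimalPrimes T) = Nat.card (minimalPrimes R) := by
  haveI := Groth.L05.Henselization.flat_of_isStrictHenselization R T
  haveI := Groth.L05.Henselization.faithfullyFlat_of_flat_local (R := R) (S := T)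
  haveI : Finite (minimalPrimes T) := (minimalPrimes.finite_of_isNoetherianRing T).to_subtype
  let π : minimalPrimes T → minimalPrimes R := fun Q =>
    ⟨_, Groth.L05.StrictGalois.comap_mem_minimalPrimes_of_flat Q.2⟩
  have hπ : Function.Surjective π := fun q => by
    haveI := q.2.isPrime
    obtain ⟨P, hP⟩ := PrimeSpectrum.comap_surjective_of_faithfullyFlat (A := R) (B := T) ⟨q.1, inferInstance⟩
    obtain ⟨Q, hQ, hle⟩ := Ideal.exists_minimalPrimes_le (I := (⊥ : Ideal T)) (J := P.asIdeal) bot_le
    haveI := hQ.isPrime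
    have hc : P.asIdeal.comap (algebraMap R T) = q.1 := congrArg PrimeSpectrum.asIdeal hP
    exact ⟨⟨Q, hQ⟩, Subtype.ext (le_antisymm ((Ideal.comap_mono hle).trans hc.le)
      (q.2.2 ⟨Ideal.IsPrime.comap _, bot_le⟩ ((Ideal.comap_mono hle).trans hc.le)))⟩
  suffices h : (∀ Q ∈ minimalPrimes T, Q = Ideal.map (algebraMap R T) (Q.comap (algebraMap R T))) ↔
      Function.Injective π by
    rw [h]
    exact ⟨fun h => Nat.card_eq_of_bijective π ⟨h, hπ⟩,
      fun h => ((Nat.bijective_iff_surjective_and_card π).2 ⟨hπ, h⟩).1⟩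
  constructor
  · intro h Q Q' hQQ'
    refine Subtype.ext ((h Q.1 Q.2).trans ?_)
    rw [show Q.1.comap (algebraMap R T) = Q'.1.comap (algebraMap R T) from congrArg Subtype.val hQQ']
    exact (h Q'.1 Q'.2).symm
  · intro hinj Q hQ
    haveI := hQ.isPrime
    set q := Q.comap (algebraMap R T)
    haveI : q.IsPrime := Ideal.IsPrime.comap _
    obtain ⟨_, _, _⟩ := Groth.L23.Branch.quotient_instances (A := R) (S := T) (p := q) inferInstance
    haveI := Groth.L23.SH.isStrictHenselization_quotient (A := R) (S := T) q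
    haveI : IsReduced (T ⧸ q.map (algebraMap R T)) :=
      (Groth.Agent.S2747.result (R ⧸ q) (T ⧸ q.map (algebraMap R T))).2 inferInstance
    have hrad : (q.map (algebraMap R T)).IsRadical :=
      (Ideal.isRadical_iff_quotient_reduced _).2 inferInstance
    refine le_antisymm ?_ (Ideal.map_le_iff_le_comap.2 le_rfl)
    rw [← hrad.radical, Ideal.radical_eq_sInf]
    refine le_sInf fun P ⟨hP, hPp⟩ => ?_
    haveI : P.IsPrime := hPp
    obtain ⟨Q', hQ', hle⟩ := Ideal.exists_minimalPrimes_le (I := (⊥ : Ideal T)) (J := P) bot_le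
    haveI := hQ'.isPrime
    obtain ⟨Q'', hQ''P, hQ''⟩ : ∃ Q'' ≤ P, Q'' ∈ minimalPrimes T ∧ Q''.comap (algebraMap R T) = q := by
      haveI : P.LiesOver (P.comap (algebraMap R T)) := ⟨rfl⟩
      obtain ⟨P₁, hP₁P, hP₁, hP₁'⟩ := Ideal.exists_ideal_le_liesOver_of_le P (p := q)
        (q := P.comap (algebraMap R T)) (Ideal.map_le_iff_le_comap.1 hP)
      obtain ⟨P₂, hP₂, hle₂⟩ := Ideal.exists_minimalPrimes_le (I := (⊥ : Ideal T)) (J := P₁) bot_le
      haveI := hP₂.isPrime
      refine ⟨P₂, hle₂.trans hP₁P, hP₂, le_antisymm ((Ideal.comap_mono hle₂).trans hP₁'.over.symm.le) ?_⟩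
      exact (Groth.L05.StrictGalois.comap_mem_minimalPrimes_of_flat hQ).2 ⟨Ideal.IsPrime.comap _, bot_le⟩
        ((Ideal.comap_mono hle₂).trans hP₁'.over.symm.le)
    have : Q'' = Q := congrArg Subtype.val (hinj (a₁ := ⟨Q'', hQ''.1⟩) (a₂ := ⟨Q, hQ⟩) (Subtype.ext hQ''.2))
    exact this ▸ hQ''P

end Contraction

variable (Ah Ash : Type u) [CommRing Ah] [IsLocalRing Ah] [Algebra A Ah] [IsLocalHom (algebraMap A Ah)]
  [Hensel.IsHenselization A Ah] [CommRing Ash] [IsLocalRing Ash] [Algebra A Ash]
  [IsLocalHom (algebraMap A Ash)] [Hensel.IsStrictHenselization A Ash] [Algebra Ah Ash]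
  [IsScalarTower A Ah Ash]

include A in
theorem isLocalHom_hens_strict : IsLocalHom (algebraMap Ah Ash) := by
  refine ((IsLocalRing.local_hom_TFAE _).out 0 2 rfl rfl).mpr ?_
  rw [← Groth.L05.Henselization.map_maximalIdeal_of_isHenselization A Ah, Ideal.map_map,
    ← IsScalarTower.algebraMap_eq]
  exact ((IsLocalRing.local_hom_TFAE _).out 0 2 rfl rfl).mp
    (inferInstance : IsLocalHom (algebraMap A Ash))

include A in
theorem isStrictHenselization_hens [IsLocalHom (algebraMap Ah Ash)] :
    Hensel.IsStrictHenselization Ah Ash := by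
  haveI : Algebra.WeaklyEtale A Ah :=
    Groth.L27.IndEtale.weaklyEtale _ _ (Groth.L05.Henselization.isIndEtale_of_isHenselization A Ah)
  haveI : Algebra.WeaklyEtale A Ash :=
    Groth.L27.IndEtale.weaklyEtale _ _ (Groth.L05.Henselization.isIndEtale_of_isStrictHenselization A Ash)
  obtain ⟨hflat, hμ⟩ := Groth.L20.TorAmp.weaklyEtale_cancel A Ah Ash
  haveI : Algebra.WeaklyEtale Ah Ash := ⟨hflat, hμ⟩
  have hS : Hensel.IsStrictHenselization A Ash := inferInstance
  haveI : HenselianLocalRing Ash := hS.henselian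
  haveI : IsSepClosed (ResidueField Ash) := hS.isSepClosure.sep_closed
  exact Groth.L05.HensTensor.isStrictHenselization_of_weaklyEtale Ah Ash

/-- Minimal primes of the strict henselization are extended from the henselization exactly when all
branches have purely inseparable residue fields. -/
theorem extended_iff [IsNoetherianRing A] [IsReduced A] :
    (∀ Q ∈ minimalPrimes Ash, Q = Ideal.map (algebraMap Ah Ash) (Q.comap (algebraMap Ah Ash))) ↔
      ∀ m : MaximalSpectrum (CAlg2.normRed A), ∀ x : CAlg2.normRed A ⧸ m.asIdeal, ∃ n : ℕ,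
        x ^ (ringExpChar (CAlg2.normRed A ⧸ m.asIdeal)) ^ n ∈ (Brnch.toResidue A m).range := by
  classical
  haveI := isLocalHom_hens_strict A Ah Ash
  haveI := isStrictHenselization_hens A Ah Ash
  haveI := Groth.L05.Henselization.flat_of_isStrictHenselization Ah Ash
  haveI := Groth.L05.Henselization.faithfullyFlat_of_flat_local (R := Ah) (S := Ash)
  haveI : IsNoetherianRing Ash := (Groth.Agent.S0540.result A Ash).1 inferInstance
  haveI : IsNoetherianRing Ah := (Groth.Agent.S0511.result A Ah).1 inferInstance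
  haveI : IsReduced Ash := (Groth.Agent.S2747.result A Ash).2 inferInstance
  have hfinA : (minimalPrimes A).Finite := minimalPrimes.finite_of_isNoetherianRing A
  haveI : Finite (minimalPrimes Ash) := (minimalPrimes.finite_of_isNoetherianRing Ash).to_subtype
  haveI : IsReduced Ah := isReduced_of_injective (algebraMap Ah Ash)
    (FaithfulSMul.algebraMap_injective Ah Ash)
  rw [extended_iff_card Ah Ash]
  -- count
  haveI : ∀ m, Nonempty (Brnch.Emb A m) := fun m => (emb_iff A m).1
  have hsh : ENat.card (minimalPrimes Ash) = ENat.card (Σ m : MaximalSpectrum (CAlg2.normRed A), Brnch.Emb A m) := by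
    haveI := Groth.L05.Henselization.flat_of_isStrictHenselization A Ash
    rw [Groth.L23.Branch.card_minimalPrimes_strict A Ash]
    exact if_pos hfinA
  have hh : ENat.card (minimalPrimes Ah) = ENat.card (MaximalSpectrum (CAlg2.normRed A)) := by
    haveI := Groth.L05.Henselization.flat_of_isHenselization A Ah
    rw [Groth.L23.Branch.card_minimalPrimes_hens A Ah]
    exact if_pos hfinA
  haveI : Finite (minimalPrimes Ash) := (minimalPrimes.finite_of_isNoetherianRing Ash).to_subtype
  haveI : Finite (minimalPrimes Ah) := (minimalPrimes.finite_of_isNoetherianRing Ah).to_subtype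
  have hfinS : Finite (Σ m : MaximalSpectrum (CAlg2.normRed A), Brnch.Emb A m) :=
    ENat.card_lt_top.1 (hsh ▸ ENat.card_lt_top.2 inferInstance)
  rw [forall_congr' (fun m => ((emb_iff A m).2).symm), ← card_subsingleton_iff _ hfinS, ← hsh, ← hh,
    ENat.card_eq_coe_natCard, ENat.card_eq_coe_natCard, Nat.cast_inj]

end Groth.L05.BranchResidue
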